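import Groth.Agent.SecComp6.GeomIrr
import Groth.Agent.FibDim.RelDim
import Groth.Agent.MorLib.LimCons
import Groth.Agent.ConsPropLib.Approx
import Groth.Agent.S3402
import Groth.Agent.S9218
import Groth.Agent.UnivOpen.SectionComp

/-!
# A noetherian model with geometrically irreducible components of constant dimension
-/

set_option autoImplicit false
set_option linter.style.haveILetI false
set_option backward.isDefEq.respectTransparency false
set_option backward.isDefEq.respectTransparency.types false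

open AlgebraicGeometry CategoryTheory CategoryTheory.Limits Topology Groth.Agent.ConsPropLib

namespace Groth.Agent.SecComp6

open GeomComp5

universe u

variable {X S : Scheme.{u}} (f : X ⟶ S) (e : S ⟶ X) (he : e ≫ f = 𝟙 S)

include he

theorem irr_of_isPullback {X' T : Scheme.{u}} (f' : X' ⟶ T) (p : X' ⟶ X) (h : T ⟶ S) (sq : IsPullback p f' f h)
    (e' : T ⟶ X') (he' : e' ≫ f' = 𝟙 T) (he'p : e' ≫ p = h ≫ e) {L : Type u} [Field L]
    (a : Spec (CommRingCat.of L) ⟶ T) : Irr f' e' a ↔ Irr f e (a ≫ h) := by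
  have sq' : IsPullback (pullback.fst f' a ≫ p) (pullback.snd f' a) f (a ≫ h) :=
    (IsPullback.of_hasPullback f' a).paste_horiz sq
  let θ := sq'.isoPullback
  rw [Irr, Irr, ← isIrreducible_preimage_iso θ, S1324.result f e he f' p h sq e' he' he'p]
  apply iff_of_eq
  congr 1
  ext z
  show p (pullback.fst f' a z) ∈ MoreMor.sectionComponents f e ↔
    pullback.fst f (a ≫ h) (θ.hom z) ∈ MoreMor.sectionComponents f e
  rw [show pullback.fst f (a ≫ h) (θ.hom z) = p (pullback.fst f' a z) from by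
    rw [← Scheme.Hom.comp_apply, sq'.isoPullback_hom_fst, Scheme.Hom.comp_apply]]

omit he in
theorem isConstructible_of_isOpen {T : Scheme.{u}} [AlgebraicGeometry.IsNoetherian T] {E : Set T} (hE : IsOpen E) :
    IsConstructible E :=
  (TopologicalSpace.NoetherianSpace.isCompact E).isConstructible hE

theorem isConstructible_setOf_dim [AlgebraicGeometry.IsNoetherian S] [LocallyOfFiniteType f] (d : ℕ) :
    IsConstructible {s : S | FlatMor.fibreDimAt f (e s) = (d : WithBot ℕ∞)} := by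
  have h1 : IsConstructible {s : S | FlatMor.fibreDimAt f (e s) ≤ (d : WithBot ℕ∞)} :=
    isConstructible_of_isOpen ((FibDim.isOpen_fibreDimAt_le f d).preimage e.continuous)
  have h2 : IsConstructible {s : S | (d : WithBot ℕ∞) ≤ FlatMor.fibreDimAt f (e s)} :=
    isConstructible_compl.1 (isConstructible_of_isOpen
      ((FibDim.isClosed_le_fibreDimAt f d).preimage e.continuous).isOpen_compl)
  convert h1.inter h2 using 1
  ext s
  exact ⟨fun h => ⟨h.le, h.ge⟩, fun h => le_antisymm h.1 h.2⟩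

omit he in
/-- A morphism of finite presentation over an affine base with a section whose components are geometrically
irreducible of constant dimension has a model of the same kind over a noetherian base. -/
theorem exists_dim_model (A : Type u) [CommRing A] {X : Scheme.{u}} (f : X ⟶ Spec (CommRingCat.of A))
    [LocallyOfFinitePresentation f] [QuasiCompact f] [QuasiSeparated f]
    (s : Spec (CommRingCat.of A) ⟶ X) (hs : s ≫ f = 𝟙 _)
    (hirr : ∀ (y : Spec (CommRingCat.of A)) (K : Type u) [Field K]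
      [Algebra (IsLocalRing.ResidueField ((Spec (CommRingCat.of A)).presheaf.stalk y)) K],
      IsIrreducible ((FBase.bcπ (f.fiberToSpecResidueField y) K ≫ f.fiberι y).base ⁻¹' (connectedComponentIn (f.base ⁻¹' {y}) (s.base y))))
    (d : ℕ) (hd : ∀ y, FlatMor.fibreDimAt f (s y) = (d : WithBot ℕ∞)) :
    ∃ (S₁ X₁ : Scheme.{u}) (f₁ : X₁ ⟶ S₁) (s₁ : S₁ ⟶ X₁) (π : Spec (CommRingCat.of A) ⟶ S₁) (q : X ⟶ X₁),
      AlgebraicGeometry.IsNoetherian S₁ ∧ (_root_.IsReduced A → AlgebraicGeometry.IsReduced S₁) ∧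
        LocallyOfFinitePresentation f₁ ∧ QuasiCompact f₁ ∧ QuasiSeparated f₁ ∧ s₁ ≫ f₁ = 𝟙 _ ∧
        IsPullback q f f₁ π ∧ s ≫ q = π ≫ s₁ ∧
        (∀ (y : S₁) (K : Type u) [Field K] [Algebra (IsLocalRing.ResidueField (S₁.presheaf.stalk y)) K],
          IsIrreducible ((FBase.bcπ (f₁.fiberToSpecResidueField y) K ≫ f₁.fiberι y).base ⁻¹' (connectedComponentIn (f₁.base ⁻¹' {y}) (s₁.base y)))) ∧
        (∀ y : S₁, FlatMor.fibreDimAt f₁ (s₁ y) = (d : WithBot ℕ∞)) := by
  let D := NoethApprox.diagram (CommRingCat.of A)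
  let c : Cone D := NoethApprox.cone (CommRingCat.of A)
  have hc : IsLimit c := NoethApprox.isLimit (CommRingCat.of A)
  haveI : ∀ {i j} (f : i ⟶ j), IsAffineHom (D.map f) := fun f => NoethApprox.isAffineHom_map _ f
  haveI : ∀ (i j) (f : i ⟶ j), IsAffineHom (D.map f) := fun _ _ f => NoethApprox.isAffineHom_map _ f
  haveI : ∀ i, IsAffine (D.obj i) := fun i => NoethApprox.isAffine_obj _ i
  haveI : ∀ i, AlgebraicGeometry.IsNoetherian (D.obj i) := fun i => NoethApprox.isNoetherian_obj _ i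
  let fc : X ⟶ c.pt := f
  haveI : LocallyOfFinitePresentation fc := ‹LocallyOfFinitePresentation f›
  haveI : QuasiCompact fc := ‹QuasiCompact f›
  haveI : QuasiSeparated fc := ‹QuasiSeparated f›
  obtain ⟨a, X₀, f₀, g₀, hM⟩ := hasModel hc fc
  haveI := hM.lfp
  haveI := hM.qc
  haveI := hM.qs
  haveI := hM.compactSpace
  haveI := hM.quasiSeparatedSpace
  obtain ⟨j, φ, fj, sX, sY, hfj, hA1, hA2, hB1, hB2, hcomm⟩ :=
    Groth.Agent.S9218.result D c hc a (𝟙 (D.obj a)) f₀ (c.π.app a) (𝟙 c.pt)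
      IsPullback.of_id_snd g₀ fc hM.sq s hs
  let p := pullback.snd (𝟙 (D.obj a)) (D.map φ)
  haveI : IsIso p := inferInstance
  have hsY : sY = hM.push φ := pullback.hom_ext (hB1.trans (hM.push_fst φ).symm) (hB2.trans (hM.push_snd φ).symm)
  have hMj := hM.pushed φ
  haveI := hMj.lfp
  haveI := hMj.qc
  haveI := hMj.qs
  let f₁ := pullback.snd f₀ (D.map φ)
  haveI : LocallyOfFiniteType f₁ := inferInstance
  let s₁ : D.obj j ⟶ pullback f₀ (D.map φ) := inv p ≫ fj
  have hs₁ : s₁ ≫ f₁ = 𝟙 _ := by rw [Category.assoc, hfj, IsIso.inv_hom_id]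
  have sq₁ : IsPullback (hM.push φ) f f₁ (c.π.app j) := hMj.sq
  have hsq₁ : s ≫ hM.push φ = c.π.app j ≫ s₁ := by
    rw [← hsY, ← hcomm, ← Category.assoc]
    congr 1
    rw [← cancel_mono p, Category.assoc, IsIso.inv_hom_id, Category.comp_id, hA2]
    exact Category.id_comp _
  let B : Set (D.obj j) := {t | Irr f₁ s₁ (geomPt t)} ∩ {t | FlatMor.fibreDimAt f₁ (s₁ t) = (d : WithBot ℕ∞)}
  have hB : IsConstructible B :=
    (isConstructible_setOf_irr f₁ s₁ hs₁).inter (isConstructible_setOf_dim f₁ s₁ hs₁ d)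
  have himg : ∀ t : c.pt, c.π.app j t ∈ B := fun t => by
    refine ⟨?_, ?_⟩
    · show Irr f₁ s₁ (geomPt (c.π.app j t))
      rw [irr_iff_irr f₁ s₁ hs₁ (geomPt (c.π.app j t)) (geomPt t ≫ c.π.app j) (by
          rw [pt_geomPt, pt, Scheme.Hom.comp_apply, show (geomPt t) _ = t from pt_geomPt t]; rfl),
        ← irr_of_isPullback f₁ s₁ hs₁ f (hM.push φ) (c.π.app j) sq₁ s hs hsq₁]
      exact irr_of_hirr f s (y := t) (hirr t) _ (pt_geomPt t)
    · show FlatMor.fibreDimAt f₁ (s₁ (c.π.app j t)) = (d : WithBot ℕ∞)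
      rw [← Scheme.Hom.comp_apply, ← hsq₁, Scheme.Hom.comp_apply, ← FibDim.fibreDimAt_baseChange sq₁]
      exact hd t
  obtain ⟨k, ψ, hk⟩ := MorLib.LimCons.exists_subset_open hc j ⊤
    (TopologicalSpace.NoetherianSpace.isCompact _) (A := Set.univ) MorLib.LimCons.pro_univ
    ((S3402.result _ B).1 hB.isLocallyConstructible).1 (fun t _ => himg t)
  have hMk := hMj.pushed ψ
  haveI := hMk.lfp
  haveI := hMk.qc
  haveI := hMk.qs
  let f₂ := pullback.snd f₁ (D.map ψ)
  let s₂ : D.obj k ⟶ pullback f₁ (D.map ψ) := pullback.lift (D.map ψ ≫ s₁) (𝟙 _)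
    (by rw [Category.assoc, hs₁, Category.comp_id, Category.id_comp])
  have hs₂ : s₂ ≫ f₂ = 𝟙 _ := pullback.lift_snd _ _ _
  have hs₂f : s₂ ≫ pullback.fst f₁ (D.map ψ) = D.map ψ ≫ s₁ := pullback.lift_fst _ _ _
  refine ⟨D.obj k, pullback f₁ (D.map ψ), f₂, s₂, c.π.app k, hMj.push ψ, inferInstance, fun hA => ?_,
    hMk.lfp, hMk.qc, hMk.qs, hs₂, hMk.sq, ?_, ?_, ?_⟩
  · haveI : _root_.IsReduced (Algebra.adjoin ℤ ((k.unop : Finset A) : Set A)) :=
      isReduced_of_injective (Algebra.adjoin ℤ ((k.unop : Finset A) : Set A)).val.toRingHom Subtype.val_injective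
    exact inferInstanceAs (AlgebraicGeometry.IsReduced
      (Spec (CommRingCat.of (Algebra.adjoin ℤ ((k.unop : Finset A) : Set A)))))
  · apply pullback.hom_ext
    · rw [Category.assoc, Category.assoc, hMj.push_fst, hs₂f, hsq₁, ← c.w ψ]
      simp only [s₁, Category.assoc]
    · rw [Category.assoc, Category.assoc, hMj.push_snd, hs₂, Category.comp_id, ← Category.assoc]
      exact (congrArg (· ≫ c.π.app k) hs).trans (Category.id_comp _)
  · intro y K _ _
    refine hirr_of_irr f₂ s₂ (fun L _ _ b hb => ?_) K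
    rw [irr_baseChange f₁ s₁ hs₁ (D.map ψ) s₂ hs₂ hs₂f,
      irr_iff_irr f₁ s₁ hs₁ (b ≫ D.map ψ) (geomPt (D.map ψ y)) (by
        rw [pt_geomPt, pt, Scheme.Hom.comp_apply, show b _ = y from hb])]
    exact (hk (show y ∈ D.map ψ ⁻¹' ((⊤ : (D.obj j).Opens) ∩ Set.univ) from ⟨trivial, trivial⟩)).1
  · intro y
    rw [FibDim.fibreDimAt_baseChange (IsPullback.of_hasPullback f₁ (D.map ψ)), ← Scheme.Hom.comp_apply, hs₂f,
      Scheme.Hom.comp_apply]
    exact (hk (show y ∈ D.map ψ ⁻¹' ((⊤ : (D.obj j).Opens) ∩ Set.univ) from ⟨trivial, trivial⟩)).2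

end Groth.Agent.SecComp6
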