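import Groth.Agent.SecComp6.Core
import Groth.Agent.SecComp6.DimModel
import Groth.Agent.SecComp5.FlatNhd
import Groth.Agent.FlatLocus.Basic
import Groth.Agent.StalkLoc7.Basic

/-!
# Components of a section with locally constant dimension, finite presentation (EGA IV 15.6.5–15.6.8)
-/

set_option autoImplicit false
set_option linter.style.haveILetI false
set_option backward.isDefEq.respectTransparency false
set_option backward.isDefEq.respectTransparency.types false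

open AlgebraicGeometry CategoryTheory CategoryTheory.Limits TopologicalSpace

namespace Groth.Agent.SecComp6

universe u

open GeomComp5 in
/-- Flatness at a point is stable under base change. -/
theorem flat_stalkMap_baseChange {X S X' S' : Scheme.{u}} {f : X ⟶ S} [LocallyOfFinitePresentation f] {f' : X' ⟶ S'}
    {q : X' ⟶ X} {π : S' ⟶ S} (sq : IsPullback q f' f π) (x : X') (h : (f.stalkMap (q x)).hom.Flat) :
    (f'.stalkMap x).hom.Flat := by
  let U : X.Opens := ⟨{z | (f.stalkMap z).hom.Flat}, FlatLocus.isOpen_flat_locus f⟩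
  haveI : Flat (U.ι ≫ f) := (Flat.iff_flat_stalkMap _).2 fun u =>
    (StalkLoc7.stalkMap_flat_openImmersion_comp f U u).1 u.2
  have sq' : IsPullback (q ∣_ U) ((q ⁻¹ᵁ U).ι ≫ f') (U.ι ≫ f) π :=
    (isPullback_morphismRestrict q U).paste_vert sq
  haveI : Flat ((q ⁻¹ᵁ U).ι ≫ f') := MorphismProperty.of_isPullback sq' inferInstance
  exact (StalkLoc7.stalkMap_flat_openImmersion_comp f' (q ⁻¹ᵁ U) ⟨x, h⟩).2 (Flat.stalkMap _ _)

variable {X S : Scheme.{u}} (f : X ⟶ S) (e : S ⟶ X) (he : e ≫ f = 𝟙 S)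
  (hirr : ∀ (y : S) (K : Type u) [Field K] [Algebra (IsLocalRing.ResidueField (S.presheaf.stalk y)) K],
      IsIrreducible ((FBase.bcπ (f.fiberToSpecResidueField y) K ≫ f.fiberι y).base ⁻¹' (connectedComponentIn (f.base ⁻¹' {y}) (e.base y))))

include he hirr

theorem dim_eq_fibreDimAt [LocallyOfFiniteType f] (y : S) :
    topologicalKrullDim ↥(connectedComponentIn (f.base ⁻¹' {y}) (e.base y)) = FlatMor.fibreDimAt f (e y) :=
  UnivOpen.dim_component f (SecComp5.apply_section f e he y) (UnivOpen.irreducible_of_geomIrreducible f hirr y)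

theorem exists_nat_fibreDimAt [LocallyOfFiniteType f] (y : S) :
    ∃ d : ℕ, FlatMor.fibreDimAt f (e y) = (d : WithBot ℕ∞) := by
  obtain ⟨ξ, -, -, -, -, -, h⟩ := UnivOpen.exists_component_generic f (SecComp5.apply_section f e he y)
    (UnivOpen.irreducible_of_geomIrreducible f hirr y)
  exact ⟨FibDim.rd f ξ, h⟩

variable [LocallyOfFinitePresentation f] [QuasiCompact f] [QuasiSeparated f]

theorem affine_local [IsAffine S] (d : ℕ) (hd : ∀ y, FlatMor.fibreDimAt f (e y) = (d : WithBot ℕ∞))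
    {x : X} (hx : x ∈ MoreMor.sectionComponents f e)
    (hred : FBase.IsGeomReducedAt (f.fiberToSpecResidueField (f.base x)) (f.asFiber x)) :
    x ∈ interior (MoreMor.sectionComponents f e) ∧
      (∃ U : X.Opens, x ∈ U ∧
        ∀ x' : X, x' ∈ U → FBase.IsGeomReducedAt (f.fiberToSpecResidueField (f.base x')) (f.asFiber x')) ∧
      (AlgebraicGeometry.IsReduced S → (f.stalkMap x).hom.Flat) := by
  let ε := S.isoSpec
  have hsd : (ε.inv ≫ e) ≫ (f ≫ ε.hom) = 𝟙 _ := by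
    rw [Category.assoc, ← Category.assoc e, he, Category.id_comp, Iso.inv_hom_id]
  have sqε : IsPullback (𝟙 X) (f ≫ ε.hom) f ε.inv := IsPullback.of_horiz_isIso ⟨by simp⟩
  obtain ⟨S₁, X₁, f₁, s₁, π, q, hS₁, hS₁red, hlfp, hqc, hqs, hs₁, sq, hsq, hirr₁, hd₁⟩ :=
    exists_dim_model Γ(S, ⊤) (f ≫ ε.hom) (ε.inv ≫ e) hsd
      (fun y K _ _ => hirr_of_irr _ _ (fun L _ _ a _ => by
        rw [irr_of_isPullback f e he (f ≫ ε.hom) (𝟙 X) ε.inv sqε (ε.inv ≫ e) hsd (Category.comp_id _) a]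
        exact irr_of_hirr f e (y := GeomComp5.pt (a ≫ ε.inv)) (hirr _) _ rfl) K)
      d (fun y => by
        rw [FibDim.fibreDimAt_baseChange sqε]
        exact hd (ε.inv y))
  haveI := hlfp
  have sq' : IsPullback q f f₁ (ε.hom ≫ π) :=
    IsPullback.of_iso sq (Iso.refl _) (Iso.refl _) ε.symm (Iso.refl _) (by simp) (by simp) (by simp) (by simp)
  have hgq : e ≫ q = (ε.hom ≫ π) ≫ s₁ := by
    rw [Category.assoc, ← hsq, ← Category.assoc, ← Category.assoc, Iso.hom_inv_id, Category.id_comp]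
  have hsc := S1324.result f₁ s₁ hs₁ f q (ε.hom ≫ π) sq' e he hgq
  have hx₁ : q x ∈ MoreMor.sectionComponents f₁ s₁ := hsc.le hx
  have hfq : ∀ w, f₁ (q w) = (ε.hom ≫ π) (f w) := fun w => by
    rw [← Scheme.Hom.comp_apply, sq'.w, Scheme.Hom.comp_apply]
  have hdle : ∀ y', y' ⤳ f₁ (q x) → topologicalKrullDim ↥(connectedComponentIn (f₁.base ⁻¹' {f₁ (q x)}) (s₁.base (f₁ (q x)))) ≤
      topologicalKrullDim ↥(connectedComponentIn (f₁.base ⁻¹' {y'}) (s₁.base y')) := fun y' _ => by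
    rw [dim_eq_fibreDimAt f₁ s₁ hs₁ hirr₁, dim_eq_fibreDimAt f₁ s₁ hs₁ hirr₁, hd₁, hd₁]
  obtain ⟨c, hc, hcι⟩ := ConsPropLib.exists_fibre_pullback sq' (f x)
  have hred₁ : FBase.IsGeomReducedAt (f₁.fiberToSpecResidueField (f₁ (q x))) (f₁.asFiber (q x)) := by
    have h := SecComp5.geomReduced_descend (k := S₁.residueField ((ε.hom ≫ π) (f x))) (k' := S.residueField (f x))
      (f₁.fiberToSpecResidueField ((ε.hom ≫ π) (f x))) (f.fiberToSpecResidueField (f x)) c
      ((ε.hom ≫ π).residueFieldMap (f x)).hom hc (f.asFiber x) hred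
    have hcx : f₁.fiberι ((ε.hom ≫ π) (f x)) (c (f.asFiber x)) = q x := by
      rw [← Scheme.Hom.comp_apply, hcι, Scheme.Hom.comp_apply, f.fiberι_asFiber]
    revert h hcx
    generalize c (f.asFiber x) = z
    revert z
    generalize hs : (ε.hom ≫ π) (f x) = s
    obtain rfl : f₁ (q x) = s := (hfq x).trans hs
    intro z h hz
    rwa [show z = f₁.asFiber (q x) from (f₁.fiberι _).isEmbedding.injective (hz.trans (f₁.fiberι_asFiber _).symm)] at h
  obtain ⟨hint, U, hU, hUred⟩ := mem_interior_of_dim f₁ s₁ hs₁ hirr₁ hdle hx₁ rfl hred₁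
  refine ⟨?_, ⟨q ⁻¹ᵁ U, hU, fun x' hx' => ?_⟩, fun hS => ?_⟩
  · rw [hsc]
    exact preimage_interior_subset_interior_preimage q.continuous hint
  · obtain ⟨c', hc', hc'ι⟩ := ConsPropLib.exists_fibre_pullback sq' (f x')
    refine SecComp5.geomReduced_of_pullback (k := S₁.residueField ((ε.hom ≫ π) (f x'))) (k' := S.residueField (f x'))
      (f₁.fiberToSpecResidueField ((ε.hom ≫ π) (f x'))) (f.fiberToSpecResidueField (f x')) c'
      ((ε.hom ≫ π).residueFieldMap (f x')).hom hc' (f.asFiber x') ?_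
    have h := hUred (q x') hx'
    have hcx : f₁.fiberι ((ε.hom ≫ π) (f x')) (c' (f.asFiber x')) = q x' := by
      rw [← Scheme.Hom.comp_apply, hc'ι, Scheme.Hom.comp_apply, f.fiberι_asFiber]
    revert hcx
    generalize c' (f.asFiber x') = z
    revert z
    generalize hs : (ε.hom ≫ π) (f x') = s
    obtain rfl : f₁ (q x') = s := (hfq x').trans hs
    intro z hz
    rwa [show z = f₁.asFiber (q x') from (f₁.fiberι _).isEmbedding.injective (hz.trans (f₁.fiberι_asFiber _).symm)]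
  · haveI := hS₁red inferInstance
    exact flat_stalkMap_baseChange sq' x (flat_of_dim f₁ s₁ hs₁ hirr₁ hdle hx₁ rfl hred₁ inferInstance)

/-- The finitely presented case, near a point of constancy of the dimension. -/
theorem fp_local {x : X} (hx : x ∈ MoreMor.sectionComponents f e)
    (hconst : ∃ V ∈ nhds (f.base x), ∀ z ∈ V, topologicalKrullDim ↥(connectedComponentIn (f.base ⁻¹' {z}) (e.base z)) = topologicalKrullDim ↥(connectedComponentIn (f.base ⁻¹' {(f.base x)}) (e.base (f.base x))))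
    (hred : FBase.IsGeomReducedAt (f.fiberToSpecResidueField (f.base x)) (f.asFiber x)) :
    x ∈ interior (MoreMor.sectionComponents f e) ∧
      (∃ U : X.Opens, x ∈ U ∧
        ∀ x' : X, x' ∈ U → FBase.IsGeomReducedAt (f.fiberToSpecResidueField (f.base x')) (f.asFiber x')) ∧
      (AlgebraicGeometry.IsReduced S → (f.stalkMap x).hom.Flat) := by
  obtain ⟨V₀, hV₀, hV₀c⟩ := hconst
  obtain ⟨V₁, hV₁, hV₁o, hxV₁⟩ := mem_nhds_iff.1 hV₀
  obtain ⟨V, hV, hxV, hVV₁⟩ := exists_isAffineOpen_mem_and_subset (show f x ∈ (⟨V₁, hV₁o⟩ : S.Opens) from hxV₁)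
  haveI : IsAffine V.toScheme := hV
  obtain ⟨d, hdx⟩ := exists_nat_fibreDimAt f e he hirr (f x)
  let f₁ := f ∣_ V
  haveI : LocallyOfFinitePresentation f₁ := IsZariskiLocalAtTarget.restrict ‹_› _
  haveI : QuasiCompact f₁ := IsZariskiLocalAtTarget.restrict ‹_› _
  haveI : QuasiSeparated f₁ := IsZariskiLocalAtTarget.restrict ‹_› _
  have hr : Set.range (V.ι ≫ e) ⊆ Set.range (f ⁻¹ᵁ V).ι := by
    rw [Scheme.Opens.range_ι]
    rintro _ ⟨t, rfl⟩
    show f (e (V.ι t)) ∈ V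
    rw [SecComp5.apply_section f e he]
    exact t.2
  let e₁ := IsOpenImmersion.lift (f ⁻¹ᵁ V).ι (V.ι ≫ e) hr
  have he₁ι : e₁ ≫ (f ⁻¹ᵁ V).ι = V.ι ≫ e := IsOpenImmersion.lift_fac _ _ _
  have he₁ : e₁ ≫ f₁ = 𝟙 _ := by
    rw [← cancel_mono V.ι, Category.assoc, morphismRestrict_ι, reassoc_of% he₁ι, he, Category.comp_id,
      Category.id_comp]
  have sq := (isPullback_morphismRestrict f V).flip
  have hsc : MoreMor.sectionComponents f₁ e₁ = (f ⁻¹ᵁ V).ι ⁻¹' MoreMor.sectionComponents f e :=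
    S1324.result f e he f₁ _ V.ι sq e₁ he₁ he₁ι
  have hd₁ : ∀ y, FlatMor.fibreDimAt f₁ (e₁ y) = (d : WithBot ℕ∞) := fun y => by
    rw [FibDim.fibreDimAt_baseChange sq, ← Scheme.Hom.comp_apply, he₁ι, Scheme.Hom.comp_apply, ← hdx,
      ← dim_eq_fibreDimAt f e he hirr, ← dim_eq_fibreDimAt f e he hirr]
    exact hV₀c _ (hV₁ (hVV₁ y.2))
  let x₁ : (f ⁻¹ᵁ V : Scheme.{u}) := ⟨x, hxV⟩
  obtain ⟨c, hc, hcι⟩ := ConsPropLib.exists_fibre_pullback sq (f₁ x₁)
  have hfι : ∀ w, V.ι (f₁ w) = f ((f ⁻¹ᵁ V).ι w) := fun w => by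
    rw [← Scheme.Hom.comp_apply, morphismRestrict_ι, Scheme.Hom.comp_apply]
  have hred₁ : FBase.IsGeomReducedAt (f₁.fiberToSpecResidueField (f₁ x₁)) (f₁.asFiber x₁) := by
    refine SecComp5.geomReduced_of_pullback (k := S.residueField (V.ι (f₁ x₁))) (k' := (V : Scheme.{u}).residueField (f₁ x₁))
      (f.fiberToSpecResidueField (V.ι (f₁ x₁))) (f₁.fiberToSpecResidueField (f₁ x₁)) c
      (V.ι.residueFieldMap (f₁ x₁)).hom hc (f₁.asFiber x₁) ?_
    have hcx : f.fiberι (V.ι (f₁ x₁)) (c (f₁.asFiber x₁)) = x := by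
      rw [← Scheme.Hom.comp_apply, hcι, Scheme.Hom.comp_apply, f₁.fiberι_asFiber]
      rfl
    revert hcx
    generalize c (f₁.asFiber x₁) = z
    revert z
    generalize hs : V.ι (f₁ x₁) = s
    obtain rfl : f x = s := (hfι x₁).symm.trans hs
    intro z hz
    rwa [show z = f.asFiber x from (f.fiberι _).isEmbedding.injective (hz.trans (f.fiberι_asFiber _).symm)]
  obtain ⟨hint, ⟨U, hU, hUred⟩, hflat⟩ := affine_local f₁ e₁ he₁
    (fun y K _ _ => hirr_of_irr _ _ (fun L _ _ a _ => by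
      rw [irr_of_isPullback f e he f₁ _ V.ι sq e₁ he₁ he₁ι a]
      exact irr_of_hirr f e (y := GeomComp5.pt (a ≫ V.ι)) (hirr _) _ rfl) K)
    d hd₁ (x := x₁) (by rw [hsc]; exact hx) hred₁
  refine ⟨?_, ⟨(f ⁻¹ᵁ V).ι ''ᵁ U, ⟨x₁, hU, rfl⟩, ?_⟩, fun hS => ?_⟩
  · refine interior_mono ?_ ((f ⁻¹ᵁ V).ι.isOpenEmbedding.isOpenMap.image_interior_subset _ ⟨x₁, hint, rfl⟩)
    rintro _ ⟨w, hw, rfl⟩
    exact hsc.le hw
  · rintro _ ⟨w, hw, rfl⟩
    obtain ⟨c', hc', hc'ι⟩ := ConsPropLib.exists_fibre_pullback sq (f₁ w)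
    have h := SecComp5.geomReduced_descend (k := S.residueField (V.ι (f₁ w))) (k' := (V : Scheme.{u}).residueField (f₁ w))
      (f.fiberToSpecResidueField (V.ι (f₁ w))) (f₁.fiberToSpecResidueField (f₁ w)) c'
      (V.ι.residueFieldMap (f₁ w)).hom hc' (f₁.asFiber w) (hUred w hw)
    have hcx : f.fiberι (V.ι (f₁ w)) (c' (f₁.asFiber w)) = (f ⁻¹ᵁ V).ι w := by
      rw [← Scheme.Hom.comp_apply, hc'ι, Scheme.Hom.comp_apply, f₁.fiberι_asFiber]
    revert h hcx
    generalize c' (f₁.asFiber w) = z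
    revert z
    generalize hs : V.ι (f₁ w) = s
    obtain rfl : f ((f ⁻¹ᵁ V).ι w) = s := (hfι w).symm.trans hs
    intro z h hz
    rwa [show z = f.asFiber ((f ⁻¹ᵁ V).ι w) from
      (f.fiberι _).isEmbedding.injective (hz.trans (f.fiberι_asFiber _).symm)] at h
  · haveI : AlgebraicGeometry.IsReduced V.toScheme := isReduced_of_isOpenImmersion V.ι
    have h := hflat inferInstance
    have h' : ((f₁ ≫ V.ι).stalkMap x₁).hom.Flat := by
      rw [Scheme.Hom.stalkMap_comp]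
      exact RingHom.Flat.comp (Flat.stalkMap V.ι (f₁ x₁)) h
    rw [Scheme.Hom.stalkMap_congr_hom _ _ (morphismRestrict_ι f V) x₁] at h'
    have h'' := (FlatLocus.flat_isIso_comp _ _).1 h'
    exact (StalkLoc7.stalkMap_flat_openImmersion_comp f (f ⁻¹ᵁ V) x₁).2 h''

end Groth.Agent.SecComp6
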