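import Groth.Agent.UnivOpen.SectionConst

/-!
# Domination by the components of a section along a discrete valuation ring
-/

set_option autoImplicit false
set_option linter.style.haveILetI false

open AlgebraicGeometry CategoryTheory Limits Topology IsLocalRing

namespace Groth.Agent.SecComp6

open UnivOpen

universe u

variable {X Y : Scheme.{u}} (f : X ⟶ Y)

/-- As `UnivOpen.exists_dominating`, recording that the point found lies over the component of the section. -/
theorem exists_dominating [LocallyOfFiniteType f] {g : Y ⟶ X} (hg : g ≫ f = 𝟙 Y)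
    (hgi : ∀ (y : Y) (K : Type u) [Field K] [Algebra (IsLocalRing.ResidueField (Y.presheaf.stalk y)) K],
      IsIrreducible ((FBase.bcπ (f.fiberToSpecResidueField y) K ≫ f.fiberι y).base ⁻¹' (connectedComponentIn (f.base ⁻¹' {y}) (g.base y))))
    (hirr : ∀ y : Y, IsIrreducible (connectedComponentIn (f.base ⁻¹' {y}) (g.base y)))
    {Y' : Scheme.{u}} (τ : Y' ⟶ Y) {c t : Y'} (htc : t ⤳ c) {ξ : X}
    (hfξ : f ξ = τ c) (hξ : ξ ∈ connectedComponentIn (f.base ⁻¹' {τ c}) (g.base (τ c)))
    (hξm : FibDim.FibMax f ξ)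
    (hle : topologicalKrullDim ↥(connectedComponentIn (f.base ⁻¹' {τ c}) (g.base (τ c))) ≤
      topologicalKrullDim ↥(connectedComponentIn (f.base ⁻¹' {τ t}) (g.base (τ t))))
    (x' : ↥(pullback f τ)) (hx' : pullback.fst f τ x' ∈ connectedComponentIn (f.base ⁻¹' {τ c}) (g.base (τ c)))
    (hxc : pullback.snd f τ x' = c) :
    ∃ z', z' ⤳ x' ∧ pullback.snd f τ z' = t ∧
      pullback.fst f τ z' ∈ connectedComponentIn (f.base ⁻¹' {τ t}) (g.base (τ t)) := by
  obtain ⟨ζ, hfζ, hζg, hζm, hζC, hζv, hdc⟩ := exists_component_generic f (apply_section hg (τ c)) (hirr _)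
  obtain rfl : ζ = ξ := hξm ζ (specializes_iff_mem_closure.2 (hζC ▸ hξ).1) (hfζ.trans hfξ.symm)
  obtain ⟨ξ₁, hfξ₁, hξ₁g, -, -, -, hdt⟩ := exists_component_generic f (apply_section hg (τ t)) (hirr _)
  rw [dim_component f (apply_section hg _) (hirr _), dim_component f (apply_section hg _) (hirr _), hdc, hdt] at hle
  have hle' : FibDim.rd f ζ ≤ FibDim.rd f ξ₁ := by exact_mod_cast hle
  -- the generic point of the points over `C` and `c`
  have hS := isIrreducible_preimage_over f τ c rfl _ (connectedComponentIn_subset _ _) (hgi (τ c))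
  let S := {v : ↥(pullback f τ) | pullback.snd f τ v = c ∧
    pullback.fst f τ v ∈ connectedComponentIn (f.base ⁻¹' {τ c}) (g.base (τ c))}
  let ω := hS.genericPoint
  have hω : IsGenericPoint ω (closure S) := hS.isGenericPoint_genericPoint_closure
  -- the section of the base change
  let g' : Y' ⟶ pullback f τ := pullback.lift (τ ≫ g) (𝟙 Y') (by rw [Category.assoc, hg, Category.comp_id, Category.id_comp])
  have hg' : g' ≫ pullback.snd f τ = 𝟙 Y' := pullback.lift_snd _ _ _
  have hg'₁ : g' ≫ pullback.fst f τ = τ ≫ g := pullback.lift_fst _ _ _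
  haveI : LocallyOfFiniteType (pullback.snd f τ) := inferInstance
  -- a top point over the generic fibre
  have hgt : pullback.fst f τ (g' t) = g (τ t) := by rw [← Scheme.Hom.comp_apply, hg'₁]; rfl
  have hS₁ := isIrreducible_preimage_over f τ t rfl _ (connectedComponentIn_subset _ _) (hgi (τ t))
  obtain ⟨v₁, hv₁p, hv₁q, hv₁r⟩ := FibDim.exists_rd_baseChange_eq (IsPullback.of_hasPullback f τ) ξ₁ t hfξ₁
  let S₁ := {v : ↥(pullback f τ) | pullback.snd f τ v = t ∧
    pullback.fst f τ v ∈ connectedComponentIn (f.base ⁻¹' {τ t}) (g.base (τ t))}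
  let ω₁ := hS₁.genericPoint
  have hω₁ : IsGenericPoint ω₁ (closure S₁) := hS₁.isGenericPoint_genericPoint_closure
  have hqω₁ : pullback.snd f τ ω₁ = t := by
    have hmem : g' t ∈ S₁ := ⟨apply_section hg' t, by rw [hgt]; exact mem_connectedComponentIn (apply_section hg _)⟩
    have h1 : pullback.snd f τ ω₁ ⤳ t :=
      ((hω₁.specializes (subset_closure hmem)).map (pullback.snd f τ).continuous).trans (specializes_of_eq (apply_section hg' t))
    have h2 : t ⤳ pullback.snd f τ ω₁ := by
      rw [specializes_iff_mem_closure]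
      refine closure_mono ?_ (image_closure_subset_closure_image (pullback.snd f τ).continuous ⟨ω₁, hω₁.mem, rfl⟩)
      exact Set.image_subset_iff.2 fun v hv => hv.1
    exact (h1.antisymm h2).eq
  have hmem₁ : g' t ∈ S₁ := ⟨apply_section hg' t, by rw [hgt]; exact mem_connectedComponentIn (apply_section hg _)⟩
  have hξ₁C : ξ₁ ∈ connectedComponentIn (f.base ⁻¹' {τ t}) (g.base (τ t)) := by
    obtain ⟨ζ₁, hfζ₁, -, hζ₁m, hζ₁C, hζ₁v, -⟩ := exists_component_generic f (apply_section hg (τ t)) (hirr _)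
    rw [hζ₁C]
    exact ⟨specializes_iff_mem_closure.1 (hζ₁v ξ₁ hfξ₁ hξ₁g), hfξ₁⟩
  have hr₁ : FibDim.rd (pullback.snd f τ) v₁ ≤ FibDim.rd (pullback.snd f τ) ω₁ :=
    FibDim.rd_le_of_specializes _ (hω₁.specializes (subset_closure ⟨hv₁q, hv₁p ▸ hξ₁C⟩)) (hqω₁.trans hv₁q.symm)
  obtain ⟨z, hωz, hzg, hqz, hrz⟩ := FibDim.exists_rd_ge (pullback.snd f τ)
    ((hω₁.specializes (subset_closure hmem₁)).trans (htc.map g'.continuous))
  rw [apply_section hg'] at hqz
  have hzS : z ∈ S := by
    refine ⟨hqz, ?_⟩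
    rw [hζC]
    have hfz : f (pullback.fst f τ z) = τ c := by
      rw [← Scheme.Hom.comp_apply, pullback.condition, Scheme.Hom.comp_apply, hqz]
    have h1 : pullback.fst f τ z ⤳ g (τ c) := by
      have := hzg.map (pullback.fst f τ).continuous
      rwa [← Scheme.Hom.comp_apply g', hg'₁] at this
    exact ⟨specializes_iff_mem_closure.1 (hζv _ hfz h1), hfz⟩
  have hqω : pullback.snd f τ ω = c := by
    have h1 : pullback.snd f τ ω ⤳ c :=
      ((hω.specializes (subset_closure hzS)).map (pullback.snd f τ).continuous).trans (specializes_of_eq hqz)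
    have h2 : c ⤳ pullback.snd f τ ω := by
      rw [specializes_iff_mem_closure]
      refine closure_mono ?_ (image_closure_subset_closure_image (pullback.snd f τ).continuous ⟨ω, hω.mem, rfl⟩)
      exact Set.image_subset_iff.2 fun v hv => hv.1
    exact (h1.antisymm h2).eq
  have hrω : FibDim.rd (pullback.snd f τ) ω ≤ FibDim.rd f ζ := by
    refine (FibDim.rd_baseChange_le (IsPullback.of_hasPullback f τ) ω).trans ?_
    have hpω : pullback.fst f τ ω ⤳ g (τ c) := by
      have := ((hω.specializes (subset_closure hzS)).trans hzg).map (pullback.fst f τ).continuous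
      rwa [← Scheme.Hom.comp_apply g', hg'₁] at this
    have hfp : f (pullback.fst f τ ω) = τ c := by
      rw [← Scheme.Hom.comp_apply, pullback.condition, Scheme.Hom.comp_apply, hqω]
    exact FibDim.rd_le_of_specializes f (hζv _ hfp hpω) (hfξ.trans hfp.symm)
  have hzω : z = ω := by
    by_contra hne
    have := FibDim.rd_lt (pullback.snd f τ) (hω.specializes (subset_closure hzS)) (Ne.symm hne) (hqω.trans hqz.symm)
    omega
  refine ⟨ω₁, hωz.trans (specializes_of_eq hzω |>.trans (hω.specializes (subset_closure ⟨hxc, hx'⟩))), hqω₁, ?_⟩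
  obtain ⟨ζ₁, hfζ₁, -, hζ₁m, hζ₁C, hζ₁v, -⟩ := exists_component_generic f (apply_section hg (τ t)) (hirr _)
  have h1 : pullback.fst f τ ω₁ ∈ closure (connectedComponentIn (f.base ⁻¹' {τ t}) (g.base (τ t))) := by
    refine closure_mono ?_ (image_closure_subset_closure_image (pullback.fst f τ).continuous ⟨ω₁, hω₁.mem, rfl⟩)
    exact Set.image_subset_iff.2 fun v hv => hv.2
  rw [hζ₁C] at h1 ⊢
  refine ⟨closure_minimal Set.inter_subset_left isClosed_closure h1, ?_⟩
  show f (pullback.fst f τ ω₁) = τ t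
  rw [← Scheme.Hom.comp_apply, pullback.condition, Scheme.Hom.comp_apply, hqω₁]

/-- EGA IV 15.6.7 (α): the dimension does not drop at a generization. -/
theorem dim_le_of_geomReduced [LocallyOfFiniteType f] {g : Y ⟶ X} (hg : g ≫ f = 𝟙 Y)
    (hgi : ∀ (y : Y) (K : Type u) [Field K] [Algebra (IsLocalRing.ResidueField (Y.presheaf.stalk y)) K],
      IsIrreducible ((FBase.bcπ (f.fiberToSpecResidueField y) K ≫ f.fiberι y).base ⁻¹' (connectedComponentIn (f.base ⁻¹' {y}) (g.base y))))
    {y₀ y' : Y}
    {A : Type u} [CommRing A] [IsDomain A] [IsDiscreteValuationRing A] (τ : Spec (CommRingCat.of A) ⟶ Y)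
    (hτc : τ (IsLocalRing.closedPoint A) = y₀)
    (hτη : ∀ η : Spec (CommRingCat.of A), η ≠ IsLocalRing.closedPoint A → τ η = y')
    (hopen : ∀ ξ ∈ connectedComponentIn (f.base ⁻¹' {y₀}) (g.base y₀),
      connectedComponentIn (f.base ⁻¹' {y₀}) (g.base y₀) ⊆ closure {ξ} → EGA43.IsUnivOpenAt f ξ)
    (a : ↥(f.fiber y₀)) (ha₀ : f.fiberι y₀ a = g y₀) (hred : FBase.IsGeomReducedAt (f.fiberToSpecResidueField y₀) a) :
    topologicalKrullDim ↥(connectedComponentIn (f.base ⁻¹' {y₀}) (g.base y₀)) ≤
      topologicalKrullDim ↥(connectedComponentIn (f.base ⁻¹' {y'}) (g.base y')) := by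
  have hirr := irreducible_of_geomIrreducible f hgi
  haveI : IsLocallyNoetherian (Spec (CommRingCat.of A)) := inferInstance
  let η : Spec (CommRingCat.of A) := (⟨⊥, Ideal.isPrime_bot⟩ : PrimeSpectrum A)
  let c : Spec (CommRingCat.of A) := closedPoint A
  have hηne : η ≠ c := fun h => IsDiscreteValuationRing.not_a_field A (congrArg PrimeSpectrum.asIdeal h).symm
  have hcases : ∀ t : Spec (CommRingCat.of A), t ≠ c → t = η := fun t ht => by
    refine PrimeSpectrum.ext ?_
    by_contra h
    exact ht (PrimeSpectrum.ext (IsLocalRing.eq_maximalIdeal ((t : PrimeSpectrum A).isPrime.isMaximal h)))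
  have hτ : τ η = y' := hτη η hηne
  have hηc : η ⤳ c := (PrimeSpectrum.le_iff_specializes
    (⟨⊥, Ideal.isPrime_bot⟩ : PrimeSpectrum A) (closedPoint A : PrimeSpectrum A)).1 bot_le
  let q := pullback.snd f τ
  let p := pullback.fst f τ
  let g' : Spec (CommRingCat.of A) ⟶ pullback f τ := pullback.lift (τ ≫ g) (𝟙 _)
    (by rw [Category.assoc, hg, Category.comp_id, Category.id_comp])
  have hg' : g' ≫ q = 𝟙 _ := pullback.lift_snd _ _ _
  have hg'₁ : g' ≫ p = τ ≫ g := pullback.lift_fst _ _ _
  have hpg : ∀ t, p (g' t) = g (τ t) := fun t => by rw [← Scheme.Hom.comp_apply, hg'₁]; rfl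
  obtain ⟨ξ, hfξ, hξg, hξm, hC, hξv, hdC⟩ := exists_component_generic f (apply_section hg y₀) (hirr y₀)
  obtain ⟨ξ', hfξ', -, -, hC', hξ'v, hdC'⟩ := exists_component_generic f (apply_section hg y') (hirr y')
  rw [dim_component f (apply_section hg _) (hirr _), dim_component f (apply_section hg _) (hirr _), hdC, hdC']
  suffices FibDim.rd f ξ ≤ FibDim.rd f ξ' by exact_mod_cast this
  -- the generic point of the closed fibre at the section
  obtain ⟨v, hvp, hvq, hvr⟩ := FibDim.exists_rd_baseChange_eq (IsPullback.of_hasPullback f τ) ξ c (hfξ.trans hτc.symm)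
  have hS := isIrreducible_preimage_over f τ c hτc _ (connectedComponentIn_subset _ _) (hgi y₀)
  let S := {v : ↥(pullback f τ) | q v = c ∧ p v ∈ connectedComponentIn (f.base ⁻¹' {y₀}) (g.base y₀)}
  let ω := hS.genericPoint
  have hω : IsGenericPoint ω (closure S) := hS.isGenericPoint_genericPoint_closure
  have hgS : g' c ∈ S := ⟨apply_section hg' c, by
    rw [hpg, hτc]; exact mem_connectedComponentIn (apply_section hg _)⟩
  have hωg : ω ⤳ g' c := hω.specializes (subset_closure hgS)
  have hqω : q ω = c := by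
    have h1 : q ω ⤳ c := (hωg.map q.continuous).trans (specializes_of_eq (apply_section hg' c))
    have h2 : c ⤳ q ω := by
      rw [specializes_iff_mem_closure]
      refine closure_mono ?_ (image_closure_subset_closure_image q.continuous ⟨ω, hω.mem, rfl⟩)
      exact Set.image_subset_iff.2 fun v hv => hv.1
    exact (h1.antisymm h2).eq
  have hωv : ω ⤳ v := hω.specializes (subset_closure ⟨hvq, by
    show p v ∈ _
    rw [show p v = ξ from hvp, hC]
    exact ⟨subset_closure rfl, hfξ⟩⟩)
  have hpω : p ω = ξ := by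
    refine hξm _ ((hωv.map p.continuous).trans (specializes_of_eq hvp)) ?_
    rw [← Scheme.Hom.comp_apply, pullback.condition, Scheme.Hom.comp_apply, hqω, hτc, hfξ]
  have hωm : FibDim.FibMax q ω := fun z hz hqz => by
    have hzg := hz.trans hωg
    have hfz : f (p z) = y₀ := by
      rw [← Scheme.Hom.comp_apply, pullback.condition, Scheme.Hom.comp_apply, hqz, hqω, hτc]
    have hzC : p z ∈ connectedComponentIn (f.base ⁻¹' {y₀}) (g.base y₀) := by
      rw [hC]
      refine ⟨specializes_iff_mem_closure.1 (hξv _ hfz ?_), hfz⟩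
      have := hzg.map p.continuous
      rwa [hpg, hτc] at this
    exact (hz.antisymm (hω.specializes (subset_closure ⟨hqz.trans hqω, hzC⟩))).eq
  have hωopen : EGA43.IsOpenAt q.base ω :=
    hopen ξ (by rw [hC]; exact ⟨subset_closure rfl, hfξ⟩) (by rw [hC]; exact Set.inter_subset_left) _ τ ω hpω
  obtain ⟨z, hz, hqz, hrz⟩ := FibDim.exists_generization_rd_ge q hωopen (y' := η) (by rw [hqω]; exact hηc)
  have hr : FibDim.rd f ξ ≤ FibDim.rd q ω :=
    hvr ▸ FibDim.rd_le_of_specializes q hωv (hqω.trans hvq.symm)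
  refine (hr.trans (hrz.trans (FibDim.rd_baseChange_le (IsPullback.of_hasPullback f τ) z))).trans ?_
  -- the point of the generic fibre lies in the component of the section
  have hfz : f (p z) = y' := by
    rw [← Scheme.Hom.comp_apply, pullback.condition, Scheme.Hom.comp_apply, hqz, hτ]
  suffices hmem : p z ∈ connectedComponentIn (f.base ⁻¹' {y'}) (g.base y') by
    rw [hC'] at hmem
    exact FibDim.rd_le_of_specializes f (specializes_iff_mem_closure.2 hmem.1) (hfξ'.trans hfz.symm)
  obtain ⟨w, hw⟩ : g' c ∈ Set.range (q.fiberι c) := by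
    rw [Scheme.Hom.range_fiberι]; exact apply_section hg' c
  have hwred := isReduced_fibre_baseChange f τ hτc a hred w
    (by rw [hw, ha₀]; exact (hpg c).trans (congrArg g hτc))
  have hzw : z ⤳ q.fiberι c w := by rw [hw]; exact hz.trans hωg
  have hgw : g' η ⤳ q.fiberι c w := by rw [hw]; exact hηc.map g'.continuous
  have hqopen : ∀ z', z' ⤳ q.fiberι c w → q z' = q (q.fiberι c w) → FibDim.FibMax q z' →
      EGA43.IsOpenAt q.base z' := by
    intro z' hz' hqz' hm'
    rw [hw] at hz' hqz'
    rw [apply_section hg'] at hqz'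
    have hfz' : f (p z') = y₀ := by
      rw [← Scheme.Hom.comp_apply, pullback.condition, Scheme.Hom.comp_apply, hqz', hτc]
    have hz'C : p z' ∈ connectedComponentIn (f.base ⁻¹' {y₀}) (g.base y₀) := by
      rw [hC]
      refine ⟨specializes_iff_mem_closure.1 (hξv _ hfz' ?_), hfz'⟩
      have := hz'.map p.continuous
      rwa [hpg, hτc] at this
    obtain rfl : ω = z' := hm' ω (hω.specializes (subset_closure ⟨hqz', hz'C⟩)) (hqω.trans hqz'.symm)
    exact hωopen
  have hfib : ∀ z', q z' = η → f (p z') = y' := fun z' h => by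
    rw [← Scheme.Hom.comp_apply, pullback.condition, Scheme.Hom.comp_apply, h, hτ]
  obtain ⟨T, hT, hzT, hgT⟩ := FlatDvr.exists_preconnected_generic q rfl w hqopen hwred hzw hgw
    (fun h => hηne (hqz.symm.trans h)) (fun h => hηne ((apply_section hg' η).symm.trans h))
  have hTη : ∀ t ∈ T, q t = η := fun t ht => hcases _ (hT.2 t ht)
  refine (hT.1.image p p.continuous.continuousOn).subset_connectedComponentIn
    ⟨g' η, hgT, (hpg η).trans (congrArg g hτ)⟩ ?_ ⟨z, hzT, rfl⟩
  rintro _ ⟨t, ht, rfl⟩
  exact hfib t (hTη t ht)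

end Groth.Agent.SecComp6
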