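import Groth.Agent.SecComp6.DomGen
import Groth.Agent.SecComp5.Nhd
import Groth.Agent.S2561
import Groth.Agent.S3407

/-!
# Components of a section with locally constant dimension, noetherian base (EGA IV 15.6.5–15.6.8)
-/

set_option autoImplicit false
set_option linter.style.haveILetI false
set_option backward.isDefEq.respectTransparency false
set_option backward.isDefEq.respectTransparency.types false

open AlgebraicGeometry CategoryTheory CategoryTheory.Limits TopologicalSpace

namespace Groth.Agent.SecComp6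

universe u

variable {X S : Scheme.{u}} (f : X ⟶ S) (e : S ⟶ X) (he : e ≫ f = 𝟙 S)

include he

/-- The union of the components of a section is ind-constructible over a locally noetherian base. -/
theorem isIndConstructible_sectionComponents [IsLocallyNoetherian S] [LocallyOfFiniteType f] :
    ProCons.IsIndConstructible (MoreMor.sectionComponents f e) := by
  intro x₀
  obtain ⟨V, hV, hxV, -⟩ := exists_isAffineOpen_mem_and_subset (show f x₀ ∈ (⊤ : S.Opens) from trivial)
  obtain ⟨U, hU, hxU, hUV⟩ := exists_isAffineOpen_mem_and_subset (show x₀ ∈ f ⁻¹ᵁ V from hxV)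
  haveI : IsLocallyNoetherian X := LocallyOfFiniteType.isLocallyNoetherian f
  haveI : IsAffine U.toScheme := hU
  haveI : IsLocallyNoetherian U.toScheme := isLocallyNoetherian_of_isOpenImmersion U.ι
  haveI : AlgebraicGeometry.IsNoetherian U.toScheme := {}
  haveI : IsAffine V.toScheme := hV
  haveI : IsLocallyNoetherian V.toScheme := isLocallyNoetherian_of_isOpenImmersion V.ι
  haveI : AlgebraicGeometry.IsNoetherian V.toScheme := {}
  refine ⟨U, U.isOpen, hxU, {T | Topology.IsLocallyConstructible T ∧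
    T ⊆ Subtype.val ⁻¹' MoreMor.sectionComponents f e}, fun T hT => hT.1,
    subset_antisymm ?_ (Set.sUnion_subset fun T hT => hT.2)⟩
  rintro ⟨z, hzU⟩ hz
  replace hz : z ∈ MoreMor.sectionComponents f e := hz
  have hzV : f z ∈ V := hUV hzU
  obtain ⟨W, hW, hWV, heW, hzW⟩ := SecComp5.exists_compact_open f e he (f z) V hV hzV (x := z) hz
  let f₁ : (W : Scheme.{u}) ⟶ V := f.resLE V W hWV
  have hf₁ : ∀ w, (f₁ w).1 = f w.1 := fun w => by
    show V.ι (f₁ w) = f (W.ι w)
    rw [← Scheme.Hom.comp_apply, Scheme.Hom.resLE_comp_ι, Scheme.Hom.comp_apply]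
  haveI : LocallyOfFiniteType f₁ := inferInstanceAs (LocallyOfFiniteType (f.resLE V W hWV))
  haveI : CompactSpace (W : Scheme.{u}) := isCompact_iff_compactSpace.mp hW
  haveI : IsLocallyNoetherian (W : Scheme.{u}) := LocallyOfFiniteType.isLocallyNoetherian f₁
  haveI : AlgebraicGeometry.IsNoetherian (W : Scheme.{u}) := {}
  haveI : QuasiCompact f₁ := inferInstance
  have hr : Set.range (V.ι ≫ e) ⊆ Set.range W.ι := by
    rw [Scheme.Opens.range_ι]
    rintro _ ⟨t, rfl⟩
    exact heW _ t.2
  let e₁ : (V : Scheme.{u}) ⟶ W := IsOpenImmersion.lift W.ι (V.ι ≫ e) hr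
  have he₁ι : e₁ ≫ W.ι = V.ι ≫ e := IsOpenImmersion.lift_fac _ _ _
  have he₁ : e₁ ≫ f₁ = 𝟙 _ := by
    rw [← cancel_mono V.ι, Category.assoc, Scheme.Hom.resLE_comp_ι, reassoc_of% he₁ι, he, Category.comp_id,
      Category.id_comp]
  have he₁v : ∀ t, W.ι (e₁ t) = e t.1 := fun t => by
    rw [← Scheme.Hom.comp_apply, he₁ι, Scheme.Hom.comp_apply]
    rfl
  have hsub : ∀ w ∈ MoreMor.sectionComponents f₁ e₁, W.ι w ∈ MoreMor.sectionComponents f e := by
    intro w hw
    show W.ι w ∈ connectedComponentIn (f ⁻¹' {f (W.ι w)}) (e (f (W.ι w)))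
    refine (isPreconnected_connectedComponentIn.image W.ι W.ι.continuous.continuousOn).subset_connectedComponentIn
      (x := e (f (W.ι w))) ⟨e₁ (f₁ w), mem_connectedComponentIn (SecComp5.apply_section f₁ e₁ he₁ _), ?_⟩ ?_
      ⟨w, hw, rfl⟩
    · rw [he₁v, hf₁]
      rfl
    · rintro _ ⟨v, hv, rfl⟩
      show f v.1 = f w.1
      rw [← hf₁, ← hf₁, show f₁ v = f₁ w from connectedComponentIn_subset (f₁ ⁻¹' {f₁ w}) (e₁ (f₁ w)) hv]
  let M : X.Opens := U ⊓ W
  let j : (M : Scheme.{u}) ⟶ U := X.homOfLE inf_le_left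
  let k : (M : Scheme.{u}) ⟶ W := X.homOfLE inf_le_right
  have hji : ∀ m, (j m).1 = m.1 := fun m => by
    show U.ι (j m) = M.ι m
    rw [← Scheme.Hom.comp_apply, Scheme.homOfLE_ι]
  have hki : ∀ m, (k m).1 = m.1 := fun m => by
    show W.ι (k m) = M.ι m
    rw [← Scheme.Hom.comp_apply, Scheme.homOfLE_ι]
  haveI : IsLocallyNoetherian M.toScheme := isLocallyNoetherian_of_isOpenImmersion j
  haveI : CompactSpace M.toScheme := isCompact_iff_compactSpace.mp
    (NoetherianSpace.isCompact (α := U.toScheme) (U.ι ⁻¹' (M : Set X)) |>.image U.ι.continuous |> fun h => by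
      rwa [Set.image_preimage_eq_of_subset (by rw [Scheme.Opens.range_ι]; exact fun w hw => hw.1)] at h)
  haveI : AlgebraicGeometry.IsNoetherian M.toScheme := {}
  haveI : QuasiCompact j := inferInstance
  refine ⟨j '' (k ⁻¹' MoreMor.sectionComponents f₁ e₁), ⟨?_, ?_⟩, ?_⟩
  · exact j.isLocallyConstructible_image
      ((GeomComp5.isConstructible_sectionComponents f₁ e₁ he₁).isLocallyConstructible.preimage_of_isOpenEmbedding
        k.isOpenEmbedding)
  · rintro _ ⟨m, hm, rfl⟩
    show (j m).1 ∈ MoreMor.sectionComponents f e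
    rw [hji, ← hki]
    exact hsub _ hm
  · have hzW' : z ∈ W := (connectedComponentIn_subset _ _ hzW).1
    refine ⟨⟨z, hzU, hzW'⟩, ?_, Subtype.ext (hji _)⟩
    have hk : k ⟨z, hzU, hzW'⟩ = (⟨z, hzW'⟩ : (W : Scheme.{u})) := Subtype.ext (hki _)
    rw [Set.mem_preimage, hk]
    show (⟨z, hzW'⟩ : (W : Scheme.{u})) ∈ connectedComponentIn (f₁ ⁻¹' {f₁ ⟨z, hzW'⟩}) (e₁ (f₁ ⟨z, hzW'⟩))
    let K := connectedComponentIn ((W : Set X) ∩ f ⁻¹' {f z}) (e (f z))
    have hK : W.ι '' (W.ι ⁻¹' K) = K := Set.image_preimage_eq_of_subset (by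
      rw [Scheme.Opens.range_ι]
      exact (connectedComponentIn_subset _ _).trans Set.inter_subset_left)
    have hpre : _root_.IsPreconnected (W.ι ⁻¹' K) := by
      rw [← W.ι.isOpenEmbedding.isInducing.isPreconnected_image, hK]
      exact isPreconnected_connectedComponentIn
    refine hpre.subset_connectedComponentIn (x := e₁ (f₁ ⟨z, hzW'⟩)) ?_ (fun v hv => ?_) hzW
    · show W.ι (e₁ (f₁ ⟨z, hzW'⟩)) ∈ K
      rw [he₁v, hf₁]
      exact mem_connectedComponentIn ⟨heW (f z) hzV, SecComp5.apply_section f e he (f z)⟩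
    · apply Subtype.ext
      rw [hf₁, hf₁]
      exact (connectedComponentIn_subset _ _ hv).2

variable (hirr : ∀ (y : S) (K : Type u) [Field K] [Algebra (IsLocalRing.ResidueField (S.presheaf.stalk y)) K],
      IsIrreducible ((FBase.bcπ (f.fiberToSpecResidueField y) K ≫ f.fiberι y).base ⁻¹' (connectedComponentIn (f.base ⁻¹' {y}) (e.base y))))

omit he in
/-- The generic points of the fibre components through a point of the component of the section lie in it. -/
theorem mem_of_fibre_generization {x : X} (hx : x ∈ MoreMor.sectionComponents f e) (z : ↥(f.fiber (f x)))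
    (hz : f.asFiber x ∈ closure {z}) (he : e ≫ f = 𝟙 S) : f.fiberι (f x) z ∈ MoreMor.sectionComponents f e := by
  refine SecComp5.mem_of_specializes_same f e he hx ?_ ((f.range_fiberι (f x)).le ⟨z, rfl⟩)
  have h := (specializes_iff_mem_closure.2 hz).map (f.fiberι (f x)).continuous
  rwa [f.fiberι_asFiber] at h

variable [IsLocallyNoetherian S] [LocallyOfFiniteType f] {y : S}
  (hd : ∀ y', y' ⤳ y → topologicalKrullDim ↥(connectedComponentIn (f.base ⁻¹' {y}) (e.base y)) ≤
      topologicalKrullDim ↥(connectedComponentIn (f.base ⁻¹' {y'}) (e.base y')))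

include hirr hd

theorem isUnivOpenAt_of_dim {x : X} (hx : x ∈ MoreMor.sectionComponents f e) (hxy : f x = y) :
    EGA43.IsUnivOpenAt f x := by
  refine UnivOpen.isUnivOpenAt_sectionComponent f he hirr hd ?_
  rw [← hxy]
  exact hx

theorem flat_of_dim {x : X} (hx : x ∈ MoreMor.sectionComponents f e) (hxy : f x = y)
    (hred : FBase.IsGeomReducedAt (f.fiberToSpecResidueField (f.base x)) (f.asFiber x))
    (hY : _root_.IsReduced (S.presheaf.stalk (f.base x))) : (f.stalkMap x).hom.Flat :=
  S2561.result f x (fun z hz _ => isUnivOpenAt_of_dim f e he hirr hd (mem_of_fibre_generization f e hx z hz he)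
    (((f.range_fiberι (f x)).le ⟨z, rfl⟩).trans hxy)) hred hY

theorem mem_of_specializes_dim {x x' : X} (hx : x ∈ MoreMor.sectionComponents f e) (hxy : f x = y) (h : x' ⤳ x)
    (hred : FBase.IsGeomReducedAt (f.fiberToSpecResidueField (f.base x)) (f.asFiber x)) :
    x' ∈ MoreMor.sectionComponents f e := by
  by_cases hf : f x' = f x
  · exact SecComp5.mem_of_specializes_same f e he hx h hf
  have hne : x ≠ x' := fun e' => hf (by rw [e'])
  haveI : IsLocallyNoetherian X := LocallyOfFiniteType.isLocallyNoetherian f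
  obtain ⟨A, g, hA, hg1, hg2⟩ := S4450.result (𝟙 X) x' x h hne
  rw [Category.comp_id] at hg2
  let O := CommRingCat.of A
  let cl : Spec O := IsLocalRing.closedPoint A
  let gp : Spec O := Spec.map (CommRingCat.ofHom A.subtype) (IsLocalRing.closedPoint (X.residueField x'))
  have hgp : gp.asIdeal = ⊥ := by
    show (IsLocalRing.maximalIdeal (X.residueField x')).comap A.subtype = ⊥
    rw [IsLocalRing.maximalIdeal_eq_bot]
    exact (RingHom.injective_iff_ker_eq_bot A.subtype).mp Subtype.val_injective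
  have hggp : g gp = x' := by
    show g (Spec.map (CommRingCat.ofHom A.subtype) _) = x'
    rw [← Scheme.Hom.comp_apply, hg2]
    exact Scheme.fromSpecResidueField_apply _ _
  let hY : Spec O ⟶ S := g ≫ f
  have hYcl : hY cl = f x := by show f (g cl) = f x; rw [hg1]
  have hYgp : hY gp = f x' := by show f (g gp) = f x'; rw [hggp]
  have hclgp : gp ≠ cl := fun e' => hf (by rw [← hYgp, e', hYcl])
  have hb : gp ⤳ cl := (PrimeSpectrum.le_iff_specializes gp cl).1 (by
    show gp.asIdeal ≤ cl.asIdeal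
    rw [hgp]; exact bot_le)
  let p := pullback.fst f hY
  let q := pullback.snd f hY
  let σ : Spec O ⟶ pullback f hY := pullback.lift g (𝟙 _) (by rw [Category.id_comp])
  have hpσ : ∀ t, p (σ t) = g t := fun t => by rw [← Scheme.Hom.comp_apply, pullback.lift_fst]
  have hqσ : ∀ t, q (σ t) = t := fun t => by rw [← Scheme.Hom.comp_apply, pullback.lift_snd]; rfl
  have hfp : ∀ z, f (p z) = hY (q z) := fun z => by
    rw [← Scheme.Hom.comp_apply, pullback.condition, Scheme.Hom.comp_apply]
  have hirr' := UnivOpen.irreducible_of_geomIrreducible f hirr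
  obtain ⟨ξ, hfξ, -, hξm, hC, -, -⟩ :=
    UnivOpen.exists_component_generic f (SecComp5.apply_section f e he (hY cl)) (hirr' (hY cl))
  have hxC : p (σ cl) ∈ connectedComponentIn (f.base ⁻¹' {hY cl}) (e.base (hY cl)) := by
    rw [hpσ, hg1, hYcl]
    exact hx
  obtain ⟨z, hz, hqz, hzC⟩ := exists_dominating f he hirr hirr' hY hb hfξ
    (by rw [hC]; exact ⟨subset_closure rfl, hfξ⟩) hξm
    (by rw [hYcl, hxy]; exact hd _ ((hb.map hY.continuous).trans (specializes_of_eq (hYcl.trans hxy)))) (σ cl) hxC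
    (hqσ cl)
  obtain ⟨w, hw⟩ : σ cl ∈ Set.range (q.fiberι cl) := by
    rw [Scheme.Hom.range_fiberι]; exact hqσ cl
  have hwred := UnivOpen.isReduced_fibre_baseChange f hY hYcl (f.asFiber x) hred w
    (by rw [hw, f.fiberι_asFiber]; exact (hpσ cl).trans hg1)
  have hqopen : ∀ z', z' ⤳ q.fiberι cl w → q z' = q (q.fiberι cl w) → FibDim.FibMax q z' →
      EGA43.IsOpenAt q.base z' := by
    intro z' hz' hqz' _
    rw [hw] at hz' hqz'
    rw [hqσ] at hqz'
    have hfz' : f (p z') = f x := by rw [hfp, hqz', hYcl]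
    have hspec : p z' ⤳ x := (hz'.map p.continuous).trans (specializes_of_eq ((hpσ cl).trans hg1))
    exact isUnivOpenAt_of_dim f e he hirr hd (SecComp5.mem_of_specializes_same f e he hx hspec hfz')
      (hfz'.trans hxy) _ hY z' rfl
  obtain ⟨T, hT, hzT, hσT⟩ := FlatDvr.exists_preconnected_generic q rfl w hqopen hwred
    (show z ⤳ q.fiberι cl w by rw [hw]; exact hz)
    (show σ gp ⤳ q.fiberι cl w by rw [hw]; exact hb.map σ.continuous)
    (fun h => hclgp (hqz.symm.trans h)) (fun h => hclgp ((hqσ gp).symm.trans h))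
  have hTη : ∀ t ∈ T, q t = gp := fun t ht => by
    refine PrimeSpectrum.ext ?_
    rw [hgp]
    by_contra hne'
    exact hT.2 t ht (PrimeSpectrum.ext (IsLocalRing.eq_maximalIdeal ((q t : PrimeSpectrum A).isPrime.isMaximal hne')))
  rw [hYgp] at hzC
  show x' ∈ connectedComponentIn (f ⁻¹' {f x'}) (e (f x'))
  rw [connectedComponentIn_eq hzC]
  refine (hT.1.image p p.continuous.continuousOn).subset_connectedComponentIn ⟨z, hzT, rfl⟩ ?_
    ⟨σ gp, hσT, (hpσ gp).trans hggp⟩
  rintro _ ⟨t, ht, rfl⟩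
  show f (p t) = f x'
  rw [hfp, hTη t ht, hYgp]

theorem mem_interior_of_dim {x : X} (hx : x ∈ MoreMor.sectionComponents f e) (hxy : f x = y)
    (hred : FBase.IsGeomReducedAt (f.fiberToSpecResidueField (f.base x)) (f.asFiber x)) :
    x ∈ interior (MoreMor.sectionComponents f e) ∧
      ∃ U : X.Opens, x ∈ U ∧
        ∀ x' : X, x' ∈ U → FBase.IsGeomReducedAt (f.fiberToSpecResidueField (f.base x')) (f.asFiber x') := by
  refine ⟨(S3403.result X _ (isIndConstructible_sectionComponents f e he) x).2 fun x' hx' =>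
    mem_of_specializes_dim f e he hirr hd hx hxy hx' hred, ?_⟩
  obtain ⟨U, hxU, -, hU⟩ := S3407.result f x (fun z hz _ => isUnivOpenAt_of_dim f e he hirr hd
    (mem_of_fibre_generization f e hx z hz he) (((f.range_fiberι (f x)).le ⟨z, rfl⟩).trans hxy)) hred
  exact ⟨U, hxU, hU⟩

end Groth.Agent.SecComp6
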