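import Groth.Agent.GeomComp5.SectionCons

/-!
# The locus of geometrically irreducible components of a section is constructible
-/

set_option autoImplicit false
set_option linter.style.haveILetI false
set_option backward.isDefEq.respectTransparency false
set_option backward.isDefEq.respectTransparency.types false

open CategoryTheory CategoryTheory.Limits AlgebraicGeometry Topology TopologicalSpace

namespace Groth.Agent.SecComp6

open GeomComp5

universe u

theorem encard_irreducibleComponents_eq_one (T : Type*) [TopologicalSpace T] :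
    (irreducibleComponents T).encard = 1 ↔ IrreducibleSpace T := by
  constructor
  · intro h
    obtain ⟨Z, hZ⟩ := Set.encard_eq_one.1 h
    have hZirr : IsIrreducible Z := (hZ.ge (Set.mem_singleton Z)).1
    have hu : Z = Set.univ := Set.eq_univ_of_forall fun x => by
      rw [← show irreducibleComponent x = Z from hZ.le (irreducibleComponent_mem_irreducibleComponents x)]
      exact mem_irreducibleComponent
    refine (irreducibleSpace_def T).2 ?_
    show IsIrreducible (Set.univ : Set T)
    rw [← hu]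
    exact hZirr
  · intro h
    refine Set.encard_eq_one.2 ⟨Set.univ, ?_⟩
    ext Z
    constructor
    · exact fun hZ => (hZ.2 (IrreducibleSpace.isIrreducible_univ T) (Set.subset_univ Z)).antisymm' (Set.subset_univ Z)
    · rintro rfl
      exact ⟨IrreducibleSpace.isIrreducible_univ T, fun _ _ _ => Set.subset_univ _⟩

theorem exists_lift_preimmersion {T S : Scheme.{u}} (j : T ⟶ S) [IsPreimmersion j] (t : T) {L : Type u} [Field L]
    (a : Spec (CommRingCat.of L) ⟶ S) (ha : pt a = j t) :
    ∃ a' : Spec (CommRingCat.of L) ⟶ T, a' ≫ j = a ∧ pt a' = t := by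
  obtain ⟨⟨s, φ⟩, hφ⟩ := (Scheme.SpecToEquivOfField L S).symm.surjective a
  replace hφ : Spec.map φ ≫ S.fromSpecResidueField s = a := hφ
  have hs : s = j t := by
    rw [← ha, pt, ← hφ, Scheme.Hom.comp_apply]
    exact (Scheme.fromSpecResidueField_apply _ _).symm
  subst hs
  haveI : IsIso (j.residueFieldMap t) := by
    refine (ConcreteCategory.isIso_iff_bijective _).2 ⟨(j.residueFieldMap t).hom.injective, fun b => ?_⟩
    obtain ⟨b, rfl⟩ := T.residue_surjective t b
    obtain ⟨c, rfl⟩ := j.stalkMap_surjective t b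
    exact ⟨S.residue (j t) c, ConcreteCategory.congr_hom (Scheme.residue_residueFieldMap j t) c⟩
  refine ⟨Spec.map (inv (j.residueFieldMap t) ≫ φ) ≫ T.fromSpecResidueField t, ?_, ?_⟩
  · rw [Category.assoc, ← Scheme.Hom.SpecMap_residueFieldMap_fromSpecResidueField, ← Category.assoc,
      ← Spec.map_comp, IsIso.hom_inv_id_assoc, hφ]
  · rw [pt, Scheme.Hom.comp_apply]
    exact Scheme.fromSpecResidueField_apply _ _

variable {X S : Scheme.{u}} (f : X ⟶ S) (e : S ⟶ X)

/-- Over the point `a` the union of the components of the section is irreducible. -/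
def Irr {L : Type u} [Field L] (a : Spec (CommRingCat.of L) ⟶ S) : Prop :=
  IsIrreducible (pullback.fst f a ⁻¹' MoreMor.sectionComponents f e)

theorem isIrreducible_preimage_iso {A B : Scheme.{u}} (θ : A ≅ B) (E : Set B) :
    IsIrreducible (θ.hom ⁻¹' E) ↔ IsIrreducible E := by
  constructor
  · intro h
    have := h.image θ.hom θ.hom.continuous.continuousOn
    rwa [Set.image_preimage_eq E θ.hom.surjective] at this
  · intro h
    have hi := h.image θ.inv θ.inv.continuous.continuousOn
    rwa [show θ.inv '' E = θ.hom ⁻¹' E from ?_] at hi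
    ext z
    constructor
    · rintro ⟨w, hw, rfl⟩
      rw [Set.mem_preimage, ← Scheme.Hom.comp_apply, θ.inv_hom_id]
      exact hw
    · exact fun hz => ⟨θ.hom z, hz, by rw [← Scheme.Hom.comp_apply, θ.hom_inv_id]; rfl⟩

/-- Passing to a field point of a residue field. -/
theorem irr_iff_bc {y : S} (L : Type u) [Field L] [Algebra (IsLocalRing.ResidueField (S.presheaf.stalk y)) L] :
    Irr f e (Spec.map (CommRingCat.ofHom (algebraMap (IsLocalRing.ResidueField (S.presheaf.stalk y)) L)) ≫
      S.fromSpecResidueField y) ↔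
      IsIrreducible ((FBase.bcπ (f.fiberToSpecResidueField y) L ≫ f.fiberι y).base ⁻¹'
        connectedComponentIn (f.base ⁻¹' {y}) (e.base y)) := by
  let x := Spec.map (CommRingCat.ofHom (algebraMap (IsLocalRing.ResidueField (S.presheaf.stalk y)) L))
  let θ := pullbackLeftPullbackSndIso f (S.fromSpecResidueField y) x
  rw [Irr, ← isIrreducible_preimage_iso θ]
  apply iff_of_eq
  congr 1
  ext z
  have h1 : pullback.fst f (x ≫ S.fromSpecResidueField y) (θ.hom z) =
      f.fiberι y (pullback.fst (f.fiberToSpecResidueField y) x z) := by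
    rw [← Scheme.Hom.comp_apply, pullbackLeftPullbackSndIso_hom_fst, Scheme.Hom.comp_apply]
    rfl
  have h2 : f (f.fiberι y (pullback.fst (f.fiberToSpecResidueField y) x z)) = y :=
    (f.range_fiberι y).le ⟨_, rfl⟩
  show pullback.fst f (x ≫ S.fromSpecResidueField y) (θ.hom z) ∈ MoreMor.sectionComponents f e ↔
    f.fiberι y (pullback.fst (f.fiberToSpecResidueField y) x z) ∈ connectedComponentIn (f.base ⁻¹' {y}) (e.base y)
  rw [h1]
  show f.fiberι y _ ∈ connectedComponentIn (f ⁻¹' {f (f.fiberι y (pullback.fst (f.fiberToSpecResidueField y) x z))})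
    (e (f (f.fiberι y (pullback.fst (f.fiberToSpecResidueField y) x z)))) ↔ _
  rw [h2]

theorem irr_of_hirr {y : S} (hirr : ∀ (K : Type u) [Field K] [Algebra (IsLocalRing.ResidueField (S.presheaf.stalk y)) K],
      IsIrreducible ((FBase.bcπ (f.fiberToSpecResidueField y) K ≫ f.fiberι y).base ⁻¹' connectedComponentIn (f.base ⁻¹' {y}) (e.base y)))
    {L : Type u} [Field L] (a : Spec (CommRingCat.of L) ⟶ S) (ha : pt a = y) : Irr f e a := by
  obtain ⟨⟨s, φ⟩, hφ⟩ := (Scheme.SpecToEquivOfField L S).symm.surjective a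
  replace hφ : Spec.map φ ≫ S.fromSpecResidueField s = a := hφ
  have hs : s = y := by
    rw [← ha, pt, ← hφ, Scheme.Hom.comp_apply]
    exact (Scheme.fromSpecResidueField_apply _ _).symm
  subst hs
  letI : Algebra (IsLocalRing.ResidueField (S.presheaf.stalk s)) L := φ.hom.toAlgebra
  rw [← hφ]
  exact (irr_iff_bc f e L).2 (hirr L)

theorem hirr_of_irr {y : S} (h : ∀ (L : Type u) [Field L] [IsAlgClosed L] (a : Spec (CommRingCat.of L) ⟶ S),
      pt a = y → Irr f e a) (K : Type u) [Field K] [Algebra (IsLocalRing.ResidueField (S.presheaf.stalk y)) K] :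
    IsIrreducible ((FBase.bcπ (f.fiberToSpecResidueField y) K ≫ f.fiberι y).base ⁻¹' connectedComponentIn (f.base ⁻¹' {y}) (e.base y)) := by
  let κ := IsLocalRing.ResidueField (S.presheaf.stalk y)
  let L := AlgebraicClosure K
  letI : Algebra κ L := ((algebraMap K L).comp (algebraMap κ K)).toAlgebra
  have hL := (irr_iff_bc f e L).1 (h L _ (by
    rw [pt, Scheme.Hom.comp_apply]
    exact Scheme.fromSpecResidueField_apply _ _))
  let q := f.fiberToSpecResidueField y
  let b : Spec (CommRingCat.of L) ⟶ Spec (CommRingCat.of K) := Spec.map (CommRingCat.ofHom (algebraMap K L))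
  let m : FBase.bc q L ⟶ FBase.bc q K := pullback.map q (Spec.map (CommRingCat.ofHom (algebraMap κ L))) q
    (Spec.map (CommRingCat.ofHom (algebraMap κ K))) (𝟙 _) b (𝟙 _) (by simp)
    (by rw [Category.comp_id, ← Spec.map_comp, ← CommRingCat.ofHom_comp]; rfl)
  have hm : m ≫ FBase.bcπ q K = FBase.bcπ q L := (pullback.lift_fst _ _ _).trans (Category.comp_id _)
  have hms : Function.Surjective m := fun z => by
    have : z ∈ Set.range m := by
      erw [Scheme.Pullback.range_map]
      refine ⟨⟨pullback.fst q _ z, rfl⟩, ⟨IsLocalRing.closedPoint L, Subsingleton.elim (α := PrimeSpectrum K) _ _⟩⟩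
    exact this
  have hi := hL.image m m.continuous.continuousOn
  rwa [show (FBase.bcπ q L ≫ f.fiberι y).base ⁻¹' connectedComponentIn (f.base ⁻¹' {y}) (e.base y) =
    m ⁻¹' ((FBase.bcπ q K ≫ f.fiberι y).base ⁻¹' connectedComponentIn (f.base ⁻¹' {y}) (e.base y)) from by
      rw [← hm, Category.assoc]; rfl, Set.image_preimage_eq _ hms] at hi

variable (he : e ≫ f = 𝟙 S)

include he

/-- Passing to the base change. -/
theorem irr_baseChange {T : Scheme.{u}} (j : T ⟶ S) (e' : T ⟶ pullback f j) (he' : e' ≫ pullback.snd f j = 𝟙 T)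
    (he'e : e' ≫ pullback.fst f j = j ≫ e) {L : Type u} [Field L] (a : Spec (CommRingCat.of L) ⟶ T) :
    Irr (pullback.snd f j) e' a ↔ Irr f e (a ≫ j) := by
  let θ := pullbackLeftPullbackSndIso f j a
  rw [Irr, Irr, ← isIrreducible_preimage_iso θ,
    S1324.result f e he (pullback.snd f j) _ j (IsPullback.of_hasPullback f j) e' he' he'e]
  apply iff_of_eq
  congr 1
  ext z
  show pullback.fst f j (pullback.fst (pullback.snd f j) a z) ∈ MoreMor.sectionComponents f e ↔
    pullback.fst f (a ≫ j) (θ.hom z) ∈ MoreMor.sectionComponents f e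
  rw [show pullback.fst f (a ≫ j) (θ.hom z) = pullback.fst f j (pullback.fst (pullback.snd f j) a z) from by
    rw [← Scheme.Hom.comp_apply, pullbackLeftPullbackSndIso_hom_fst, Scheme.Hom.comp_apply]]

theorem exists_nhd_irr [IrreducibleSpace S] [LocallyOfFiniteType f] [QuasiCompact f] :
    ∃ N : Set S, IsOpen N ∧ genericPoint S ∈ N ∧ ∃ P : Prop,
      ∀ (L : Type u) [Field L] [IsAlgClosed L] (a : Spec (CommRingCat.of L) ⟶ S), pt a ∈ N → (Irr f e a ↔ P) := by
  obtain ⟨N, hN, hηN, hclop⟩ := exists_clopen_sectionComponents f e he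
  let N₁ : S.Opens := ⟨N, hN⟩
  let O : (f ⁻¹ᵁ N₁ : Scheme.{u}).Opens := ⟨(f ⁻¹ᵁ N₁).ι ⁻¹' MoreMor.sectionComponents f e, hclop.2⟩
  haveI : IsClosedImmersion O.ι := IsClosedImmersion.of_isPreimmersion O.ι (by
    rw [Scheme.Opens.range_ι]
    exact hclop.1)
  haveI : LocallyOfFiniteType (f ∣_ N₁) := IsZariskiLocalAtTarget.restrict ‹_› _
  haveI : QuasiCompact (f ∣_ N₁) := IsZariskiLocalAtTarget.restrict ‹_› _
  let h : (O : Scheme.{u}) ⟶ (N₁ : Scheme.{u}) := O.ι ≫ (f ∣_ N₁)
  haveI : Nonempty ↥(N₁ : Scheme.{u}) := ⟨⟨genericPoint S, hηN⟩⟩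
  haveI : IrreducibleSpace ↥(N₁ : Scheme.{u}) :=
    { isPreirreducible_univ := by
        have h := (IrreducibleSpace.isIrreducible_univ S).isPreirreducible.preimage N₁.ι.isOpenEmbedding
        rwa [Set.preimage_univ] at h
      toNonempty := inferInstance }
  obtain ⟨U, hU, hηU, hUc⟩ := near_generic_irreducible h
  refine ⟨N₁.ι.base '' U, N₁.ι.isOpenEmbedding.isOpenMap U hU, ⟨_, hηU, genericPoint_eq_of_isOpenImmersion N₁.ι⟩,
    MoreMor.nGeomIrredComp h (genericPoint ↥(N₁ : Scheme.{u})) = 1, fun L _ _ a ha => ?_⟩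
  obtain ⟨t, htU, hta⟩ := ha
  obtain ⟨a₁, ha₁, ha₁t⟩ := exists_lift_preimmersion N₁.ι t a hta.symm
  rw [← (hUc t htU).1, ← ha₁t, (nGeom_eq h a₁).1, encard_irreducibleComponents_eq_one]
  let ψ : pullback h a₁ ⟶ pullback f a := pullback.map h a₁ f a (O.ι ≫ (f ⁻¹ᵁ N₁).ι) (𝟙 _) N₁.ι
    (by simp only [h, Category.assoc, morphismRestrict_ι]) (by rw [Category.id_comp, ha₁])
  have hr : Set.range ψ = pullback.fst f a ⁻¹' MoreMor.sectionComponents f e := by
    rw [Scheme.Pullback.range_map]
    ext z
    constructor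
    · rintro ⟨⟨w, hw⟩, -⟩
      show pullback.fst f a z ∈ MoreMor.sectionComponents f e
      rw [← hw]
      exact w.2
    · intro hz
      refine ⟨?_, ⟨_, rfl⟩⟩
      have hzN : pullback.fst f a z ∈ f ⁻¹ᵁ N₁ := by
        show f (pullback.fst f a z) ∈ N₁
        rw [← Scheme.Hom.comp_apply, pullback.condition, Scheme.Hom.comp_apply,
          Subsingleton.elim (α := PrimeSpectrum L) (pullback.snd f a z) (IsLocalRing.closedPoint L)]
        show pt a ∈ N₁
        rw [← show t.1 = pt a from hta]
        exact t.2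
      exact ⟨⟨⟨_, hzN⟩, hz⟩, rfl⟩
  rw [Irr, ← hr]
  constructor
  · intro hi
    have h1 := hi.isPreirreducible.preimage ψ.isOpenEmbedding
    rw [Set.preimage_range] at h1
    exact { isPreirreducible_univ := h1, toNonempty := ⟨hi.nonempty.some_mem.choose⟩ }
  · intro hi
    rw [← Set.image_univ]
    exact (IrreducibleSpace.isIrreducible_univ _).image _ ψ.continuous.continuousOn

theorem irr_iff_irr [LocallyOfFiniteType f] [QuasiCompact f] {L L' : Type u} [Field L] [IsAlgClosed L] [Field L']
    [IsAlgClosed L'] (a : Spec (CommRingCat.of L) ⟶ S) (a' : Spec (CommRingCat.of L') ⟶ S) (h : pt a = pt a') :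
    Irr f e a ↔ Irr f e a' := by
  obtain ⟨T, j, _, _, -, hg⟩ := ConsPropLib.exists_integral_closure (pt a)
  obtain ⟨b, rfl, hb⟩ := exists_lift_preimmersion j (genericPoint T) a hg.symm
  obtain ⟨b', rfl, hb'⟩ := exists_lift_preimmersion j (genericPoint T) a' (h.symm.trans hg.symm)
  let e' : T ⟶ pullback f j := pullback.lift (j ≫ e) (𝟙 _) (by rw [Category.assoc, he, Category.comp_id, Category.id_comp])
  have he' : e' ≫ pullback.snd f j = 𝟙 T := pullback.lift_snd _ _ _
  have he'e : e' ≫ pullback.fst f j = j ≫ e := pullback.lift_fst _ _ _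
  haveI : LocallyOfFiniteType (pullback.snd f j) := MorphismProperty.pullback_snd (P := @LocallyOfFiniteType) _ _ inferInstance
  haveI : QuasiCompact (pullback.snd f j) := MorphismProperty.pullback_snd (P := @QuasiCompact) _ _ inferInstance
  obtain ⟨N, -, hη, P, hP⟩ := exists_nhd_irr (pullback.snd f j) e' he'
  rw [← irr_baseChange f e he j e' he' he'e, ← irr_baseChange f e he j e' he' he'e,
    hP L b (hb ▸ hη), hP L' b' (hb' ▸ hη)]

/-- The points over which the component of the section is geometrically irreducible. -/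
theorem isConstructible_setOf_irr [AlgebraicGeometry.IsNoetherian S] [LocallyOfFiniteType f] [QuasiCompact f] :
    IsConstructible {s : S | Irr f e (geomPt s)} :=
  ConsPropLib.isConstructible_of_dichotomy _ fun T j _ _ _ => by
    let e' : T ⟶ pullback f j := pullback.lift (j ≫ e) (𝟙 _) (by rw [Category.assoc, he, Category.comp_id, Category.id_comp])
    have he' : e' ≫ pullback.snd f j = 𝟙 T := pullback.lift_snd _ _ _
    have he'e : e' ≫ pullback.fst f j = j ≫ e := pullback.lift_fst _ _ _
    haveI : LocallyOfFiniteType (pullback.snd f j) := MorphismProperty.pullback_snd (P := @LocallyOfFiniteType) _ _ inferInstance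
    haveI : QuasiCompact (pullback.snd f j) := MorphismProperty.pullback_snd (P := @QuasiCompact) _ _ inferInstance
    obtain ⟨N, hN, hη, P, hP⟩ := exists_nhd_irr (pullback.snd f j) e' he'
    have key : ∀ t ∈ N, (j t ∈ {s : S | Irr f e (geomPt s)} ↔ P) := fun t ht => by
      show Irr f e (geomPt (j t)) ↔ P
      rw [irr_iff_irr f e he (geomPt (j t)) (geomPt t ≫ j) (by
          rw [pt_geomPt, pt, Scheme.Hom.comp_apply, show (geomPt t) _ = t from pt_geomPt t]),
        ← irr_baseChange f e he j e' he' he'e, hP _ (geomPt t) (by rw [pt_geomPt]; exact ht)]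
    by_cases hp : P
    · exact Or.inl ⟨genericPoint T, mem_interior.2 ⟨N, fun t ht => (key t ht).2 hp, hN, hη⟩⟩
    · exact Or.inr ⟨genericPoint T, mem_interior.2 ⟨N, fun t ht h => hp ((key t ht).1 h), hN, hη⟩⟩

end Groth.Agent.SecComp6
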